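import Cfsg.Agent.Lib.InvChar.AutLinear.Setting
import Cfsg.Agent.Lib.InvChar.PSLThreeFour

/-!
The Sylow two-subgroups of the subgroup of index four are those of the special linear group of degree
three over the field with four elements.
-/

set_option autoImplicit false
set_option linter.unusedSectionVars false
set_option linter.style.haveILetI false
set_option maxRecDepth 100000

namespace CfsgLib.InvChar.AutLinear

open CfsgLib.InvChar.PSLThreeFour (ut ut_mul ut_inj ut_zero)

namespace SylowTable

/-- The literal of the coordinates. -/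
def coLit : ℕ := 0x9340008b2000f6d0002db00011400009200074d000afb0000000000000000000000000000000000000000000000000000000000000000000000000000000000000000000000000000000000000000000000000000000000000000000000000000000000000000000000000000000000000000000000000000000000000000000000000000000000000000000000000000000000000000000000000000000000000000000000000000000000000000000000000000000000000000000000000000000000000000000000000000000000000000000000000000000000000000000000000000000000000000000000000008710001d7000a38000fae0000510009f700021800078e000000000000000000000000000000000000000000000000000eaa000b3c0004c3000d6500068a00031c000ce30005450000000000000000000000000000000000000000000000000000000000000000000000000000000000000000000000000000000000000000000000000000000000000000000000000000000000000000000000000000000000000000000000000000000000000000000000000000000000000000000000000000000000000000000000000000000000000000000000000000000000000000000000000000000000000000000000000000000000000000000000000000000000000000000000000000000000000000000000000000000000000000000000000003df000e69000da6000c20000bff000649000586000400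

/-- The sixty-four indices of the Sylow subgroup. -/
def pPts : List ℕ := [0, 1, 4, 5, 8, 9, 12, 13, 16, 17, 20, 21, 24, 25, 28, 29, 320, 321, 324, 325, 328, 329, 332, 333, 336, 337, 340, 341, 344, 345, 348, 349, 384, 385, 388, 389, 392, 393, 396, 397, 400, 401, 404, 405, 408, 409, 412, 413, 704, 705, 708, 709, 712, 713, 716, 717, 720, 721, 724, 725, 728, 729, 732, 733]

/-- The coordinates of an index, six bits. -/
def co (i : I) : ℕ := Nat.land (Nat.shiftRight coLit (6 * i.val)) 63

/-- The first coordinate. -/
def pa (i : I) : Fin 4 := ⟨co i % 4, Nat.mod_lt _ (by decide)⟩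

/-- The second coordinate. -/
def pq (i : I) : Fin 4 := ⟨co i / 4 % 4, Nat.mod_lt _ (by decide)⟩

/-- The corner coordinate. -/
def pd (i : I) : Fin 4 := ⟨co i / 16 % 4, Nat.mod_lt _ (by decide)⟩

/-- Addition in the field with four elements `0, 1, w, w + 1`. -/
def gadd : Fin 4 → Fin 4 → Fin 4 :=
  ![![0, 1, 2, 3], ![1, 0, 3, 2], ![2, 3, 0, 1], ![3, 2, 1, 0]]

/-- Multiplication in the field with four elements. -/
def gmul : Fin 4 → Fin 4 → Fin 4 :=
  ![![0, 0, 0, 0], ![0, 1, 2, 3], ![0, 2, 3, 1], ![0, 3, 1, 2]]

theorem pts_check : (all1 fun i => !inP i || pPts.any fun n => n == i.val) = true := by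
  decide +kernel

theorem hom_check : (pPts.all fun a => pPts.all fun b =>
    inP (mul 0 (fin a) (fin b)) &&
      (pa (mul 0 (fin a) (fin b))).val == (gadd (pa (fin a)) (pa (fin b))).val &&
      (pq (mul 0 (fin a) (fin b))).val == (gadd (pq (fin a)) (pq (fin b))).val &&
      (pd (mul 0 (fin a) (fin b))).val ==
        (gadd (gadd (pd (fin a)) (pd (fin b))) (gmul (pa (fin a)) (pq (fin b)))).val) = true := by
  decide +kernel

theorem inj_check : (pPts.all fun a => pPts.all fun b =>
    !((pa (fin a)).val == (pa (fin b)).val && (pq (fin a)).val == (pq (fin b)).val &&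
      (pd (fin a)).val == (pd (fin b)).val) || a == b) = true := by
  decide +kernel

theorem exists_pt {i : I} (h : inP i = true) : ∃ a ∈ pPts, fin a = i := by
  have h1 := all1_spec pts_check i
  rw [h, Bool.not_true, Bool.false_or, List.any_eq_true] at h1
  obtain ⟨a, ha, e⟩ := h1
  rw [beq_iff_eq] at e
  exact ⟨a, ha, e ▸ fin_val i⟩

theorem hom_spec {i j : I} (hi : inP i = true) (hj : inP j = true) :
    pa (mul 0 i j) = gadd (pa i) (pa j) ∧ pq (mul 0 i j) = gadd (pq i) (pq j) ∧
      pd (mul 0 i j) = gadd (gadd (pd i) (pd j)) (gmul (pa i) (pq j)) := by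
  obtain ⟨a, ha, rfl⟩ := exists_pt hi
  obtain ⟨b, hb, rfl⟩ := exists_pt hj
  have h := List.all_eq_true.1 (List.all_eq_true.1 hom_check a ha) b hb
  simp only [Bool.and_eq_true, beq_iff_eq, ← Fin.ext_iff] at h
  exact ⟨h.1.1.2, h.1.2, h.2⟩

theorem inj_spec {i j : I} (hi : inP i = true) (hj : inP j = true) (h1 : pa i = pa j)
    (h2 : pq i = pq j) (h3 : pd i = pd j) : i = j := by
  obtain ⟨a, ha, rfl⟩ := exists_pt hi
  obtain ⟨b, hb, rfl⟩ := exists_pt hj
  have h := List.all_eq_true.1 (List.all_eq_true.1 inj_check a ha) b hb
  simp only [h1, h2, h3, BEq.rfl, Bool.and_self, Bool.not_true, Bool.false_or, beq_iff_eq] at h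
  rw [h]

section Field

variable {F : Type*} [Field F]

/-- The four elements of the field in terms of a primitive element. -/
def el4 (w : F) : Fin 4 → F := ![0, 1, w, w + 1]

theorem el4_add {w : F} (h2 : (1 + 1 : F) = 0) :
    ∀ a b : Fin 4, el4 w (gadd a b) = el4 w a + el4 w b := by
  intro a b
  fin_cases a <;> fin_cases b <;> simp [el4, gadd] <;>
    first
    | linear_combination h2
    | linear_combination -h2
    | linear_combination w * h2
    | linear_combination -w * h2
    | linear_combination (w + 1) * h2
    | linear_combination -(w + 1) * h2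
    | linear_combination (0 : F) * h2

theorem el4_mul {w : F} (h2 : (1 + 1 : F) = 0) (hw : w * w = w + 1) :
    ∀ a b : Fin 4, el4 w (gmul a b) = el4 w a * el4 w b := by
  intro a b
  fin_cases a <;> fin_cases b <;> simp [el4, gmul] <;>
    first
    | linear_combination -hw
    | linear_combination hw
    | linear_combination -hw - w * h2
    | linear_combination -hw - h2 - w * h2

theorem el4_inj {w : F} (h0 : w ≠ 0) (h1 : w ≠ 1) (hw1 : w + 1 ≠ 0) :
    Function.Injective (el4 w) := by
  have h3 : w + 1 ≠ 1 := fun h => h0 (by linear_combination h)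
  intro a b h
  fin_cases a <;> fin_cases b <;> simp [el4] at h <;>
    first
    | rfl
    | exact absurd h h0
    | exact absurd h.symm h0
    | exact absurd h h1
    | exact absurd h.symm h1
    | exact absurd h hw1
    | exact absurd h.symm hw1

end Field

end SylowTable

open SylowTable in
/-- The Sylow two-subgroups of the two groups are isomorphic. -/
theorem sylow_iso {G : Type*} [Group G] [Finite G] {z : G} {X : Ctr 0 z} (Q : Quarter X)
    {F : Type*} [Field F] [Fintype F] (hF : Fintype.card F = 4) (S : Sylow 2 Q.L)
    (P : Sylow 2 (Matrix.ProjectiveSpecialLinearGroup (Fin 3) F)) :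
    Nonempty (↥(S : Subgroup Q.L) ≃*
      ↥(P : Subgroup (Matrix.ProjectiveSpecialLinearGroup (Fin 3) F))) := by
  classical
  haveI : Fact (Nat.Prime 2) := ⟨Nat.prime_two⟩
  obtain ⟨w, h0, h1, hw1, hw, h2, -⟩ := CfsgLib.InvChar.SymThree.four_basis hF
  obtain ⟨S₀, hS₀⟩ := Q.sylow
  have hex : ∀ x : (S₀ : Subgroup Q.L), ∃ i, inP i = true ∧ X.φ i = ((x : Q.L) : G) := fun x =>
    (hS₀ x).1 x.2
  choose idx hidx hφ using hex
  have hidxmul : ∀ x y, idx (x * y) = mul 0 (idx x) (idx y) := fun x y => X.inj (by
    rw [X.map_mul, hφ, hφ, hφ]; rfl)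
  let f : (S₀ : Subgroup Q.L) →* Matrix.ProjectiveSpecialLinearGroup (Fin 3) F :=
    MonoidHom.mk' (fun x => ut (el4 w (pa (idx x))) (el4 w (pq (idx x))) (el4 w (pd (idx x))))
      fun x y => by
        obtain ⟨e1, e2, e3⟩ := hom_spec (hidx x) (hidx y)
        rw [hidxmul, e1, e2, e3, ut_mul, el4_add h2, el4_add h2, el4_add h2, el4_add h2,
          el4_mul h2 hw]
  have hinj : Function.Injective f := fun x y e => by
    obtain ⟨e1, e2, e3⟩ := ut_inj e
    have hi := el4_inj h0 h1 hw1
    have h := inj_spec (hidx x) (hidx y) (hi e1) (hi e2) (hi e3)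
    exact Subtype.ext (Subtype.ext (by rw [← hφ x, ← hφ y, h]))
  have hcard : Nat.card (S₀ : Subgroup Q.L) = 64 := by
    have hb : Function.Bijective (fun x : (S₀ : Subgroup Q.L) =>
        (⟨idx x, hidx x⟩ : {i : I // inP i = true})) := by
      refine ⟨fun x y e => Subtype.ext (Subtype.ext ?_), fun i => ?_⟩
      · rw [← hφ x, ← hφ y, show idx x = idx y from congrArg Subtype.val e]
      · have hd : ∀ i, inP i = true → inD i = true := fun i hi => by
          have h := all1_spec (show (all1 fun i => !inP i || inD i) = true by decide +kernel) i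
          rwa [hi, Bool.not_true, Bool.false_or] at h
        let y : Q.L := ⟨X.φ i.1, (Q.mem_iff _).2 (hd _ i.2)⟩
        have hy : y ∈ (S₀ : Subgroup Q.L) := (hS₀ y).2 ⟨i.1, i.2, rfl⟩
        exact ⟨⟨y, hy⟩, Subtype.ext (X.inj (hφ ⟨y, hy⟩))⟩
    rw [Nat.card_eq_of_bijective _ hb, ← cnt_eq]
    decide +kernel
  have hR : Nat.card f.range = 64 := by
    rw [← Nat.card_congr (MonoidHom.ofInjective hinj).toEquiv, hcard]
  have hfac : Nat.factorization 20160 2 = 6 := by
    rw [show 20160 = 2 ^ 6 * 315 from rfl, Nat.factorization_mul (by norm_num) (by norm_num),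
      Nat.Prime.factorization_pow Nat.prime_two, Finsupp.add_apply, Finsupp.single_eq_same,
      Nat.factorization_eq_zero_of_not_dvd (show ¬ 2 ∣ 315 by norm_num)]
  let R : Sylow 2 (Matrix.ProjectiveSpecialLinearGroup (Fin 3) F) := Sylow.ofCard f.range (by
    rw [hR, CfsgLib.InvChar.SymThree.card_PSL_three_four hF, hfac]; rfl)
  exact ⟨((Sylow.equiv S S₀).trans (MonoidHom.ofInjective hinj)).trans (Sylow.equiv R P)⟩

end CfsgLib.InvChar.AutLinear
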